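import Groth.Agent.EGA4Lib.LocusCpl
import Groth.Agent.EGA4Lib.NorLocus
import Groth.Agent.EGA4Lib.SmoothRegular
import Groth.Prelude.Def_Pi1
import Mathlib.AlgebraicGeometry.Morphisms.Smooth

/-! Smooth over normal locally Noetherian is normal. -/

set_option autoImplicit false

universe u

open CategoryTheory AlgebraicGeometry
open scoped TensorProduct

namespace Groth.Agent.SmoothNormal

theorem isGeomNormal_fiber {A B : Type u} [CommRing A] [CommRing B] [Algebra A B] [Algebra.Smooth A B]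
    (p : Ideal A) [p.IsPrime] : EGA4.IsGeomNormal p.ResidueField (p.Fiber B) := by
  intro k' _ _ _
  haveI : Algebra.Smooth p.ResidueField (p.Fiber B) := inferInstance
  haveI : Algebra.Smooth k' (k' ⊗[p.ResidueField] p.Fiber B) := inferInstance
  haveI := Algebra.FiniteType.isNoetherianRing k' (k' ⊗[p.ResidueField] p.Fiber B)
  intro q hq
  refine EGA4Lib.mem_norLocus_of_mem_regLocus (p := ⟨q, hq⟩) (EGA4Lib.mem_regLocus_of_smooth (R := k') _ ?_)
  show IsRegularLocalRing (Localization.AtPrime _)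
  have hne : (0 : k') ∉ (PrimeSpectrum.comap (algebraMap k' (k' ⊗[p.ResidueField] p.Fiber B)) ⟨q, hq⟩).asIdeal.primeCompl :=
    fun h => h (Ideal.zero_mem _)
  have hf := MulEquiv.isField (Field.toIsField k') (RingEquiv.ofBijective _
    (IsField.localization_map_bijective (Rₘ := Localization.AtPrime
      (PrimeSpectrum.comap (algebraMap k' (k' ⊗[p.ResidueField] p.Fiber B)) ⟨q, hq⟩).asIdeal) hne
      (Field.toIsField k'))).symm.toMulEquiv
  letI := hf.toField
  exact inferInstance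

theorem isNormalScheme_of_smooth {Z S : Scheme.{u}} (f : Z ⟶ S) [Smooth f] [IsLocallyNoetherian S]
    (hS : Pi1.IsNormalScheme S) : Pi1.IsNormalScheme Z := by
  intro z
  obtain ⟨W, hW, hzW, -⟩ := exists_isAffineOpen_mem_and_subset (x := f z) (U := (⊤ : S.Opens)) trivial
  obtain ⟨U, hU, hzU, hle⟩ := exists_isAffineOpen_mem_and_subset (x := z) (U := f ⁻¹ᵁ W) hzW
  haveI : IsNoetherianRing Γ(S, W) := IsLocallyNoetherian.component_noetherian ⟨W, hW⟩
  letI : Algebra Γ(S, W) Γ(Z, U) := (f.appLE W U hle).hom.toAlgebra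
  haveI : Algebra.Smooth Γ(S, W) Γ(Z, U) := RingHom.smooth_algebraMap.mp (f.smooth_appLE hW hU hle)
  haveI : IsNoetherianRing Γ(Z, U) := Algebra.FiniteType.isNoetherianRing Γ(S, W) Γ(Z, U)
  let p := hU.primeIdealOf ⟨z, hzU⟩
  have hp : hW.primeIdealOf ⟨f z, hzW⟩ = PrimeSpectrum.comap (algebraMap Γ(S, W) Γ(Z, U)) p := by
    apply hW.fromSpec.isOpenEmbedding.injective
    rw [hW.fromSpec_primeIdealOf]
    have := congr(($(IsAffineOpen.SpecMap_appLE_fromSpec f hW hU hle)) p)
    rw [Scheme.Hom.comp_apply, Scheme.Hom.comp_apply, hU.fromSpec_primeIdealOf] at this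
    exact this.symm
  let P := hW.primeIdealOf ⟨f z, hzW⟩
  letI := TopCat.Presheaf.algebra_section_stalk S.presheaf (⟨f z, hzW⟩ : W)
  haveI := hW.isLocalization_stalk ⟨f z, hzW⟩
  let e₁ : Localization.AtPrime P.asIdeal ≃ₐ[Γ(S, W)] S.presheaf.stalk (f z) :=
    IsLocalization.algEquiv P.asIdeal.primeCompl _ _
  have hnP : P ∈ EGA4.norLocus Γ(S, W) := by
    haveI := (hS (f z)).1
    haveI := (hS (f z)).2
    exact ⟨MulEquiv.isDomain (S.presheaf.stalk (f z)) e₁.toRingEquiv.toMulEquiv,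
      IsIntegrallyClosed.of_equiv e₁.symm.toRingEquiv⟩
  rw [show P = _ from hp] at hnP
  obtain ⟨hd, hi⟩ := (EGA4Lib.mem_norLocus_iff_of_normalFibres
    (fun q _ => isGeomNormal_fiber (B := Γ(Z, U)) q) p.asIdeal).2 hnP
  letI := TopCat.Presheaf.algebra_section_stalk Z.presheaf (⟨z, hzU⟩ : U)
  haveI := hU.isLocalization_stalk ⟨z, hzU⟩
  let e : Localization.AtPrime p.asIdeal ≃ₐ[Γ(Z, U)] Z.presheaf.stalk z :=
    IsLocalization.algEquiv p.asIdeal.primeCompl _ _
  exact ⟨MulEquiv.isDomain (Localization.AtPrime p.asIdeal) e.symm.toRingEquiv.toMulEquiv,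
    IsIntegrallyClosed.of_equiv e.toRingEquiv⟩

end Groth.Agent.SmoothNormal
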